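import Cfsg.Prelude.Def_CaseTheorems
import Cfsg.Prelude.Def_Involutions
import Cfsg.Agent.Functor.Sylow
import Cfsg.Agent.Invol.StrongEmbedded
import Cfsg.Agent.LocalB.CharP

/-!
# Simple groups with one class of maximal 2-local subgroups

If all maximal 2-local subgroups are conjugate, each of them is strongly embedded, and the
involutions of a strongly embedded 2-local subgroup commute with each other.
-/

set_option autoImplicit false
set_option linter.unusedSectionVars false
set_option linter.style.haveILetI false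

namespace CfsgLib.BenderLocal

open Subgroup Cfsg CfsgLib

variable {G : Type*} [Group G] [Finite G]

/-- A 2-local subgroup lies in a maximal one. -/
theorem exists_max {X : Subgroup G} (hX : IsTwoLocal X) : ∃ L, IsMaximalTwoLocal L ∧ X ≤ L := by
  obtain ⟨L, ⟨hL, hXL⟩, hmax⟩ := Set.Finite.exists_maximalFor (fun L : Subgroup G => Nat.card L)
    {L | IsTwoLocal L ∧ X ≤ L} (Set.toFinite _) ⟨X, hX, le_rfl⟩
  exact ⟨L, ⟨hL, fun N hN hLN => (eq_of_le_of_card_ge hLN
    (hmax ⟨hN, hXL.trans hLN⟩ (card_le_of_le hLN))).symm⟩, hXL⟩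

/-- The normalizer of a nontrivial 2-subgroup lies in a maximal 2-local subgroup. -/
theorem exists_max_normalizer {Q : Subgroup G} (hQ : IsPGroup 2 Q) (hQ1 : Q ≠ ⊥) :
    ∃ L, IsMaximalTwoLocal L ∧ normalizer (Q : Set G) ≤ L :=
  exists_max ⟨Q, hQ, hQ1, rfl⟩

/-- A 2-local subgroup has even order. -/
theorem even_card {M : Subgroup G} (hM : IsTwoLocal M) : Even (Nat.card M) := by
  haveI : Fact (Nat.Prime 2) := ⟨Nat.prime_two⟩
  obtain ⟨T, hT, hT1, rfl⟩ := hM
  haveI := (nontrivial_iff_ne_bot T).2 hT1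
  obtain ⟨k, hk, he⟩ := hT.nontrivial_iff_card.1 inferInstance
  refine even_iff_two_dvd.2 (dvd_trans ?_ (card_dvd_of_le le_normalizer))
  exact he ▸ dvd_pow_self 2 hk.ne'

/-- A Sylow 2-subgroup of a subgroup dominates all its 2-subgroups in order. -/
theorem card_le_of_max {A Q R : Subgroup G} (hQA : Q ≤ A) (hQ : IsPGroup 2 Q)
    (hmax : ∀ P : Subgroup G, P ≤ A → IsPGroup 2 P → Q ≤ P → P = Q)
    (hRA : R ≤ A) (hR : IsPGroup 2 R) : Nat.card R ≤ Nat.card Q := by
  haveI : Fact (Nat.Prime 2) := ⟨Nat.prime_two⟩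
  obtain ⟨P, hP⟩ := (hQ.comap_of_injective A.subtype A.subtype_injective).exists_le_sylow
  obtain ⟨S, hS⟩ := (hR.comap_of_injective A.subtype A.subtype_injective).exists_le_sylow
  have h1 : (P : Subgroup A).map A.subtype = Q := by
    refine hmax _ (map_subtype_le _) (P.isPGroup'.map _) ?_
    rw [← subgroupOf_map_subtype Q A |>.trans (inf_of_le_left hQA)]
    exact map_mono hP
  have h2 : R ≤ (S : Subgroup A).map A.subtype := by
    rw [← subgroupOf_map_subtype R A |>.trans (inf_of_le_left hRA)]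
    exact map_mono hS
  refine (card_le_of_le h2).trans ?_
  rw [card_map_of_injective A.subtype_injective, S.card_eq_multiplicity, ← P.card_eq_multiplicity,
    ← card_map_of_injective (K := (P : Subgroup A)) A.subtype_injective, h1]

/-- All maximal 2-local subgroups are conjugate. -/
def OneClass (G : Type*) [Group G] : Prop :=
  ∀ M M' : Subgroup G, IsMaximalTwoLocal M → IsMaximalTwoLocal M' →
    ∃ g : G, M' = M.map (MulAut.conj g).toMonoidHom

/-- Two maximal 2-local subgroups with a common nontrivial 2-subgroup coincide. -/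
theorem eq_of_common (h1 : OneClass G) (k : ℕ) :
    ∀ Q : Subgroup G, Nat.card G - Nat.card Q = k → IsPGroup 2 Q → Q ≠ ⊥ →
    ∀ A B : Subgroup G, IsMaximalTwoLocal A → IsMaximalTwoLocal B → Q ≤ A → Q ≤ B → A = B := by
  haveI : Fact (Nat.Prime 2) := ⟨Nat.prime_two⟩
  induction k using Nat.strong_induction_on with
  | h k ih =>
    intro Q hk hQ hQ1
    obtain ⟨C, hC, hNC⟩ := exists_max_normalizer hQ hQ1
    suffices key : ∀ A, IsMaximalTwoLocal A → Q ≤ A → A = C from
      fun A B hA hB hQA hQB => (key A hA hQA).trans (key B hB hQB).symm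
    intro A hA hQA
    by_cases hmax : ∀ P : Subgroup G, P ≤ A → IsPGroup 2 P → Q ≤ P → P = Q
    · have hcard : ∀ R : Subgroup G, R ≤ A → IsPGroup 2 R → Nat.card R ≤ Nat.card Q :=
        fun R hRA hR => card_le_of_max hQA hQ hmax hRA hR
      obtain ⟨x, hx⟩ := h1 C A hC hA
      -- `Q` is a Sylow 2-subgroup of `G`
      obtain ⟨S, hS⟩ := hQ.exists_le_sylow
      have hSQ : (S : Subgroup G) = Q := by
        refine (eq_of_le_of_not_lt hS fun hlt => ?_).symm
        have hlt' := Functor.lt_inf_normalizer S.isPGroup' hlt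
        set Q' := (S : Subgroup G) ⊓ normalizer (Q : Set G) with hQ'
        have hle : Q'.map (MulAut.conj x).toMonoidHom ≤ A := hx ▸ map_mono (inf_le_right.trans hNC)
        have := hcard _ hle ((S.isPGroup'.to_le inf_le_left).map _)
        rw [card_map_of_injective (MulAut.conj x).injective] at this
        exact absurd (eq_of_le_of_card_ge hlt'.le this) hlt'.ne
      -- so `Q` and its conjugate by `x` are conjugate in `A`
      have hQC : Q ≤ C := le_normalizer.trans hNC
      have hS1 : (S : Subgroup G) ≤ A := hSQ ▸ hQA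
      have hS2 : ((x • S : Sylow 2 G) : Subgroup G) ≤ A := by
        rw [Sylow.coe_subgroup_smul, hSQ, hx]
        exact map_mono hQC
      obtain ⟨a, ha⟩ := MulAction.exists_smul_eq A ((x • S).subtype hS2) (S.subtype hS1)
      rw [Sylow.smul_subtype] at ha
      have ha' : (a : G) • x • S = S := Sylow.subtype_injective ha
      have hn : (a : G) * x ∈ normalizer (Q : Set G) := by
        rw [← hSQ]
        exact Sylow.smul_eq_iff_mem_normalizer.1 (by rw [mul_smul]; exact ha')
      have hAC : A.map (MulAut.conj (a : G)).toMonoidHom = C := by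
        rw [(congrArg (Subgroup.map (MulAut.conj (a : G)).toMonoidHom) hx), map_map,
          show (MulAut.conj (a : G)).toMonoidHom.comp (MulAut.conj x).toMonoidHom =
          (MulAut.conj ((a : G) * x)).toMonoidHom from MonoidHom.ext fun y => by simp [mul_assoc]]
        exact mem_normalizer_iff_map_conj_eq.1 (le_normalizer (hNC hn))
      rw [← hAC]
      exact (mem_normalizer_iff_map_conj_eq.1 (le_normalizer a.2)).symm
    · push Not at hmax
      obtain ⟨P, hPA, hP, hQP, hne⟩ := hmax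
      have hlt := Functor.lt_inf_normalizer hP (lt_of_le_of_ne hQP hne.symm)
      have h2 : Nat.card Q < Nat.card ↥(P ⊓ normalizer (Q : Set G)) :=
        lt_of_le_of_ne (card_le_of_le hlt.le) fun e => hlt.ne (eq_of_le_of_card_ge hlt.le e.ge)
      refine ih _ ?_ _ rfl (hP.to_le inf_le_left) ?_ A C hA hC (inf_le_left.trans hPA)
        (inf_le_right.trans hNC)
      · rw [← hk]
        have := Subgroup.card_le_card_group (P ⊓ normalizer (Q : Set G))
        omega
      · exact fun e => hQ1 (le_bot_iff.1 (e ▸ hlt.le))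

/-- A conjugate of a 2-local subgroup is one. -/
theorem isTwoLocal_map {X : Subgroup G} (hX : IsTwoLocal X) (g : G) :
    IsTwoLocal (X.map (MulAut.conj g).toMonoidHom) := by
  obtain ⟨T, hT, hT1, rfl⟩ := hX
  refine ⟨T.map (MulAut.conj g).toMonoidHom, hT.map _,
    fun h => hT1 ((map_eq_bot_iff_of_injective T (MulAut.conj g).injective).1 h), ?_⟩
  exact map_equiv_normalizer_eq T (MulAut.conj g)

/-- A conjugate of a maximal 2-local subgroup is one. -/
theorem isMax_map {M : Subgroup G} (hM : IsMaximalTwoLocal M) (g : G) :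
    IsMaximalTwoLocal (M.map (MulAut.conj g).toMonoidHom) := by
  have inv : ∀ (h : G) (X : Subgroup G),
      (X.map (MulAut.conj h).toMonoidHom).map (MulAut.conj h⁻¹).toMonoidHom = X := fun h X => by
    rw [map_map, show (MulAut.conj h⁻¹).toMonoidHom.comp (MulAut.conj h).toMonoidHom =
      MonoidHom.id G from MonoidHom.ext fun y => by simp [mul_assoc], map_id]
  refine ⟨isTwoLocal_map hM.1 g, fun N hN hle => ?_⟩
  have h := hM.2 _ (isTwoLocal_map hN g⁻¹) ((inv g M).symm.le.trans (map_mono hle))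
  have h2 := inv g⁻¹ N
  rw [inv_inv, h] at h2
  exact h2.symm

/-- A nonabelian simple group has no 2-local subgroup equal to the whole group. -/
theorem ne_top [IsSimpleGroup G] (hG : ¬ IsMulCommutative G) {M : Subgroup G} (hM : IsTwoLocal M) :
    M ≠ ⊤ := by
  haveI : Fact (Nat.Prime 2) := ⟨Nat.prime_two⟩
  obtain ⟨T, hT, hT1, rfl⟩ := hM
  intro h
  haveI : T.Normal := normalizer_eq_top_iff.1 h
  have hTt : T = ⊤ := (‹T.Normal›.eq_bot_or_eq_top).resolve_left hT1
  have hP : IsPGroup 2 G := (IsPGroup.of_equiv (hTt ▸ hT) Subgroup.topEquiv)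
  haveI := hP.isNilpotent
  exact hG ⟨⟨fun a b => IsSimpleGroup.comm_iff_isSolvable.2 inferInstance a b⟩⟩

/-- With one class of maximal 2-local subgroups, each is strongly embedded. -/
theorem stronglyEmbedded [IsSimpleGroup G] (hG : ¬ IsMulCommutative G) (h1 : OneClass G)
    {M : Subgroup G} (hM : IsMaximalTwoLocal M) : Cfsg.IsStronglyEmbedded M := by
  haveI : Fact (Nat.Prime 2) := ⟨Nat.prime_two⟩
  refine ⟨ne_top hG hM.1, even_card hM.1, fun g hg => ?_⟩
  by_contra hodd
  rw [Nat.not_odd_iff_even, even_iff_two_dvd] at hodd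
  obtain ⟨⟨i, hi⟩, ho⟩ := exists_prime_orderOf_dvd_card' 2 hodd
  rw [Subgroup.orderOf_mk] at ho
  have hQ : IsPGroup 2 (zpowers i) := IsPGroup.of_card (n := 1) (by rw [Nat.card_zpowers, ho]; rfl)
  have hQ1 : zpowers i ≠ ⊥ := fun h => by
    rw [zpowers_eq_bot] at h; rw [h, orderOf_one] at ho; omega
  have hle : zpowers i ≤ M ⊓ M.map (MulAut.conj g).toMonoidHom := zpowers_le.2 hi
  have heq := eq_of_common h1 _ (zpowers i) rfl hQ hQ1 M _ hM (isMax_map hM g)
    (hle.trans inf_le_left) (hle.trans inf_le_right)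
  have hgN : g ∈ normalizer (M : Set G) := mem_normalizer_iff_map_conj_eq.2 heq.symm
  obtain ⟨T, hT, hT1, hMT⟩ := hM.1
  have hMN : M ≤ normalizer (LocalB.opIn 2 M : Set G) := LocalB.le_normalizer_opIn M
  have hT0 : LocalB.opIn 2 M ≠ ⊥ := fun h => hT1 (le_bot_iff.1 (h ▸
    LocalB.le_opIn (hMT ▸ le_normalizer) hT hMT.le))
  have hg' : g ∈ normalizer (LocalB.opIn 2 M : Set G) := by
    have key : ∀ k ∈ normalizer (M : Set G), ∀ x ∈ LocalB.opIn 2 M,
        k * x * k⁻¹ ∈ LocalB.opIn 2 M := by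
      intro k hk x hx
      have hkM := mem_normalizer_iff_map_conj_eq.1 hk
      refine LocalB.le_opIn (L := M) (A := (LocalB.opIn 2 M).map (MulAut.conj k).toMonoidHom)
        ?_ ((LocalB.isPGroup_opIn M).map _) ?_ ⟨x, hx, rfl⟩
      · exact (map_mono (LocalB.opIn_le M)).trans hkM.le
      · exact hkM.ge.trans ((map_mono hMN).trans (map_equiv_normalizer_eq _ (MulAut.conj k)).le)
    refine mem_normalizer_iff.2 fun x => ⟨key g hgN x, fun hx => ?_⟩
    simpa [mul_assoc] using key g⁻¹ (inv_mem hgN) _ hx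
  exact hg ((hM.2 _ ⟨_, LocalB.isPGroup_opIn M, hT0, rfl⟩ hMN) ▸ hg')

/-- The involutions of a strongly embedded 2-local subgroup commute. -/
theorem commute_of_twoLocal {M : Subgroup G} (hM : IsTwoLocal M) (hse : Cfsg.IsStronglyEmbedded M)
    {u : G} (hu : orderOf u = 2) (huM : u ∉ M) {s t : G} (hs : s ∈ M) (hs2 : orderOf s = 2)
    (ht : t ∈ M) (ht2 : orderOf t = 2) : Commute s t := by
  haveI : Fact (Nat.Prime 2) := ⟨Nat.prime_two⟩
  obtain ⟨T, hT, hT1, rfl⟩ := hM
  haveI := (nontrivial_iff_ne_bot T).2 hT1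
  haveI := hT.center_nontrivial
  have hd : 2 ∣ Nat.card (center T) := by
    obtain ⟨k, hk, he⟩ := (hT.to_subgroup (center T)).nontrivial_iff_card.1 inferInstance
    exact he ▸ dvd_pow_self 2 hk.ne'
  obtain ⟨⟨⟨z, hzT⟩, hzc⟩, hzo⟩ := exists_prime_orderOf_dvd_card' 2 hd
  rw [Subgroup.orderOf_mk, Subgroup.orderOf_mk] at hzo
  have central : ∀ w ∈ normalizer (T : Set G), orderOf w = 2 →
      w ∈ T ∧ ∀ y ∈ T, Commute w y := by
    intro w hw hw2
    obtain ⟨d, hd, rfl⟩ := StrongEmbed.exists_conj_in_stabilizer hse hu huM hzo (le_normalizer hzT) hw2 hw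
    have hdN := (Subgroup.mem_inf.1 hd).1
    refine ⟨(mem_normalizer_iff.1 hdN z).1 hzT, fun y hy => ?_⟩
    have hy' : d⁻¹ * y * d ∈ T := by
      simpa using (mem_normalizer_iff.1 (inv_mem hdN) y).1 hy
    have hc : d⁻¹ * y * d * z = z * (d⁻¹ * y * d) :=
      congrArg Subtype.val (mem_center_iff.1 hzc ⟨_, hy'⟩)
    show d * z * d⁻¹ * y = y * (d * z * d⁻¹)
    calc d * z * d⁻¹ * y = d * (z * (d⁻¹ * y * d)) * d⁻¹ := by group
      _ = d * (d⁻¹ * y * d * z) * d⁻¹ := by rw [hc]
      _ = y * (d * z * d⁻¹) := by group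
  exact (central s hs hs2).2 t (central t ht ht2).1

end CfsgLib.BenderLocal
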