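import Cfsg.Prelude.Def_Sz
import Cfsg.Agent.BenderLocal.OneClass
import Cfsg.Agent.Recog.RankOneSuzuki.Corollaries
import Cfsg.Agent.S1136
import Cfsg.Agent.S0205

/-!
# The end of the one-class theorem

Simple groups with one class of maximal 2-local subgroups, given the structure theorem for a
strongly embedded subgroup whose involutions commute.
-/

set_option autoImplicit false
set_option linter.style.haveILetI false

namespace CfsgLib.BenderLocal

open Subgroup Cfsg CfsgLib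

universe u

/-- The structure theorem in the commuting case: a normal 2-subgroup transitive on the other
cosets. -/
def CommutingBranch : Prop :=
  ∀ {G : Type u} [Group G] [Finite G] (H : Subgroup G), Cfsg.IsStronglyEmbedded H →
    Cfsg.oddCore G = ⊥ → Bender.PairRank G →
    (∀ s ∈ H, ∀ t ∈ H, orderOf s = 2 → orderOf t = 2 → Commute s t) →
    ∃ T ≤ H, (T.subgroupOf H).Normal ∧ IsPGroup 2 T ∧
      ∀ g₁ g₂ : G, g₁ ∉ H → g₂ ∉ H → ∃ u ∈ T, g₂⁻¹ * (u * g₁) ∈ H

variable {G : Type u} [Group G] [Finite G] [IsSimpleGroup G]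

/-- A nonabelian simple group has even order. -/
theorem even_card_simple (hG : ¬ IsMulCommutative G) : Even (Nat.card G) := by
  by_contra h
  haveI := Cfsg.Agent.S0205.result (Nat.not_even_iff_odd.1 h)
  exact hG ⟨⟨fun a b => IsSimpleGroup.comm_iff_isSolvable.2 inferInstance a b⟩⟩

/-- A nonabelian simple group has a trivial odd core. -/
theorem oddCore_eq_bot (hG : ¬ IsMulCommutative G) : Cfsg.oddCore G = ⊥ := by
  have hn : (Cfsg.oddCore G).Normal := inferInstance
  refine hn.eq_bot_or_eq_top.resolve_right fun e => ?_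
  have := LocalB.odd_card_oddCore (H := G)
  rw [e, Nat.card_congr Subgroup.topEquiv.toEquiv] at this
  exact Nat.not_even_iff_odd.2 this (even_card_simple hG)

/-- The classification of simple groups with one class of maximal 2-local subgroups. -/
theorem one_class (hB : CommutingBranch.{u}) (hG : ¬ IsMulCommutative G)
    (h1 : ∀ M M' : Subgroup G, Cfsg.IsMaximalTwoLocal M → Cfsg.IsMaximalTwoLocal M' →
      ∃ g : G, M' = M.map (MulAut.conj g).toMonoidHom) :
    (∃ (F : Type) (_ : Field F) (_ : Fintype F) (n : ℕ), 2 ≤ n ∧ Fintype.card F = 2 ^ n ∧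
        Nonempty (G ≃* Matrix.ProjectiveSpecialLinearGroup (Fin 2) F)) ∨
      Cfsg.Lie.IsoSuzuki G ∨
      (∃ (F : Type) (_ : Field F) (_ : Fintype F) (n : ℕ), 2 ≤ n ∧ Fintype.card F = (2 ^ n) ^ 2 ∧
        Nonempty (G ≃* Cfsg.PSU 3 F (2 ^ n))) := by
  haveI : Fact (Nat.Prime 2) := ⟨Nat.prime_two⟩
  have heven := even_card_simple hG
  obtain ⟨i, hi⟩ := exists_prime_orderOf_dvd_card' (G := G) 2 (even_iff_two_dvd.1 heven)
  obtain ⟨H, hH, -⟩ := exists_max_normalizer (Q := zpowers i)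
    (IsPGroup.of_card (n := 1) (by rw [Nat.card_zpowers, hi]; rfl))
    (fun h => by rw [zpowers_eq_bot] at h; rw [h, orderOf_one] at hi; omega)
  have hse := stronglyEmbedded hG h1 hH
  haveI := Recog.RankOneSuzuki.Coroll.faithful_of_simple hse.1
  -- an involution outside
  obtain ⟨v, hv, hvH⟩ : ∃ v : G, orderOf v = 2 ∧ v ∉ H := by
    by_contra hc
    push Not at hc
    rcases (normalClosure_normal (s := {i})).eq_bot_or_eq_top with e | e
    · have hmem : i ∈ normalClosure {i} := subset_normalClosure rfl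
      rw [e, mem_bot] at hmem
      rw [hmem, orderOf_one] at hi; omega
    · refine hse.1 (top_le_iff.1 (e ▸ (closure_le H).2 fun x hx => ?_))
      obtain ⟨y, rfl, hy⟩ := Group.mem_conjugatesOfSet_iff.1 hx
      obtain ⟨c, rfl⟩ := isConj_iff.1 hy
      exact hc _ (by rw [← hi]; exact (SemiconjBy.conj_mk c y).orderOf_eq.symm)
  obtain ⟨x, y, hx, hy, hxy, hxx, hyy, hcom⟩ := Recog.RankOneSuzuki.Coroll.exists_two hse
  have hp : Bender.PairRank G :=
    ⟨x, y, orderOf_eq_prime (by rw [pow_two, hxx]) hx, orderOf_eq_prime (by rw [pow_two, hyy]) hy,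
      hxy, hcom⟩
  obtain ⟨T, hTH, hTn, hT, htr⟩ := hB H hse (oddCore_eq_bot hG) hp
    fun s hs t ht hs2 ht2 => commute_of_twoLocal hH.1 hse hv hvH hs hs2 ht ht2
  have vv : v * v = 1 := by rw [← pow_two, ← hv]; exact pow_orderOf_eq_one v
  have hreg : ∀ w ∈ T, v⁻¹ * (w * v) ∈ H → w = 1 := fun w hw hwv => by
    have hmem : w ∈ H ⊓ H.map (MulAut.conj v).toMonoidHom :=
      StrongEmbed.mem_inf_conj_iff.2 ⟨hTH hw, by rwa [mul_assoc]⟩
    have hd : orderOf w ∣ Nat.card ↥(H ⊓ H.map (MulAut.conj v).toMonoidHom) :=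
      orderOf_dvd_natCard _ hmem
    have ho := (hse.2.2 v hvH).of_dvd_nat hd
    obtain ⟨k, hk⟩ := IsPGroup.iff_orderOf.1 hT ⟨w, hw⟩
    rw [orderOf_mk] at hk
    rw [hk] at ho
    rcases k with _ | k
    · exact orderOf_eq_one_iff.1 (by rw [hk, pow_zero])
    · exact absurd (even_two.pow_of_ne_zero (Nat.succ_ne_zero k)) (Nat.not_even_iff_odd.2 ho)
  obtain ⟨L, hn, hodd, h⟩ := Cfsg.Agent.S1136.result
    (Recog.RankOneSuzuki.Coroll.setup_cosets H T v vv hvH hTH
      (fun h hh x hx => by simpa [mem_subgroupOf] using hTn.conj_mem ⟨x, hTH hx⟩ hx ⟨h, hh⟩)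
      (fun g hg => htr v g hvH hg) hreg (hse.2.2 v hvH) hse.2.1)
    ⟨x, y, hx, hy, hxy, hxx, hyy, hcom⟩
  have hL : L = ⊤ := hn.eq_bot_or_eq_top.resolve_left fun e => by
    rw [e, index_bot] at hodd
    exact Nat.not_even_iff_odd.2 hodd heven
  let e : G ≃* L := (MulEquiv.subgroupCongr hL |>.trans Subgroup.topEquiv).symm
  rcases h with ⟨F, i1, i2, ⟨n, hn2, hc⟩, ⟨f⟩⟩ | ⟨F, i1, i2, m, hm, hc, ⟨f⟩⟩ |
    ⟨F, i1, i2, n, hn2, hc, ⟨f⟩⟩
  · exact Or.inl ⟨F, i1, i2, n, hn2, hc, ⟨e.trans f⟩⟩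
  · exact Or.inr (Or.inl ⟨F, i1, i2, m, hm, hc, ⟨e.trans f⟩⟩)
  · exact Or.inr (Or.inr ⟨F, i1, i2, n, hn2, hc, ⟨e.trans f⟩⟩)

end CfsgLib.BenderLocal
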